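import Groth.Agent.L11.HopfUnion
import Groth.Prelude.Def_ComodSub
import Mathlib.RingTheory.FiniteType

/-!
A flat Hopf algebra of finite type with the resolution property has a faithful matrix corepresentation.
-/

set_option autoImplicit false
set_option linter.style.haveILetI false
universe u

noncomputable section

open TensorProduct

namespace Groth.L15.ComodRes

variable {R : Type u} [CommRing R] {A : Type u} [CommRing A] [HopfAlgebra R A]

/-- The coefficient matrix of a comodule structure on a free module. -/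
def coeffMat {d : ℕ} (c : HopfRep.Comod R A (Fin d → R)) : Matrix (Fin d) (Fin d) A := fun i j =>
  TensorProduct.lid R A ((LinearMap.proj i : (Fin d → R) →ₗ[R] R).rTensor A (c.coact (Pi.single j 1)))

theorem coact_single {d : ℕ} (c : HopfRep.Comod R A (Fin d → R)) (j : Fin d) :
    c.coact (Pi.single j 1) = ∑ i, Pi.single i (1 : R) ⊗ₜ[R] coeffMat c i j := by
  have key : ∀ z : (Fin d → R) ⊗[R] A, z = ∑ i, Pi.single i (1 : R) ⊗ₜ[R]
      TensorProduct.lid R A ((LinearMap.proj i : (Fin d → R) →ₗ[R] R).rTensor A z) := fun z => by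
    induction z using TensorProduct.induction_on with
    | zero => simp
    | add x y hx hy => simp only [map_add, tmul_add, Finset.sum_add_distrib, ← hx, ← hy]
    | tmul v a =>
      simp only [LinearMap.rTensor_tmul, TensorProduct.lid_tmul, LinearMap.proj_apply, ← smul_tmul, ← sum_tmul]
      congr 1
      exact pi_eq_sum_univ' v
  exact key _

theorem comul_coeffMat {d : ℕ} (c : HopfRep.Comod R A (Fin d → R)) (i j : Fin d) :
    CoalgebraStruct.comul (R := R) (coeffMat c i j) = ∑ l, coeffMat c i l ⊗ₜ[R] coeffMat c l j := by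
  have h := LinearMap.congr_fun c.coassoc (Pi.single j 1)
  simp only [LinearMap.comp_apply, LinearEquiv.coe_coe, coact_single, map_sum, LinearMap.rTensor_tmul,
    LinearMap.lTensor_tmul, sum_tmul, TensorProduct.assoc_tmul] at h
  have h' := congrArg (fun z => TensorProduct.lid R (A ⊗[R] A)
    ((LinearMap.proj i : (Fin d → R) →ₗ[R] R).rTensor (A ⊗[R] A) z)) h
  simp only [map_sum, LinearMap.rTensor_tmul, TensorProduct.lid_tmul, LinearMap.proj_apply, Pi.single_apply,
    ite_smul, one_smul, zero_smul, Finset.sum_ite_eq, Finset.mem_univ, if_true] at h'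
  exact h'.symm

theorem counit_coeffMat {d : ℕ} (c : HopfRep.Comod R A (Fin d → R)) (i j : Fin d) :
    CoalgebraStruct.counit (R := R) (coeffMat c i j) = if i = j then 1 else 0 := by
  have h := LinearMap.congr_fun c.counit_comp (Pi.single j 1)
  simp only [LinearMap.comp_apply, coact_single, map_sum, LinearMap.lTensor_tmul, LinearMap.flip_apply,
    TensorProduct.mk_apply] at h
  have h' := congrArg (fun z => TensorProduct.rid R R ((LinearMap.proj i : (Fin d → R) →ₗ[R] R).rTensor R z)) h
  simp only [map_sum, LinearMap.rTensor_tmul, TensorProduct.rid_tmul, LinearMap.proj_apply, Pi.single_apply,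
    smul_eq_mul, one_mul, mul_ite, mul_one, mul_zero, Finset.sum_ite_eq, Finset.mem_univ, if_true] at h'
  exact h'

theorem mem_span_coeff {d : ℕ} (c : HopfRep.Comod R A (Fin d → R)) {V : Submodule R A}
    (cV : HopfRep.Comod R A V) (hV : V.subtype.rTensor A ∘ₗ cV.coact = CoalgebraStruct.comul ∘ₗ V.subtype)
    (π : (Fin d → R) →ₗ[R] V) (hπ : cV.coact ∘ₗ π = π.rTensor A ∘ₗ c.coact) (z : Fin d → R) :
    (π z : A) ∈ Submodule.span R (Set.range fun p : Fin d × Fin d => coeffMat c p.1 p.2) := by
  rw [pi_eq_sum_univ' z, map_sum, Submodule.coe_sum]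
  refine Submodule.sum_mem _ fun j _ => ?_
  rw [map_smul, Submodule.coe_smul]
  refine Submodule.smul_mem _ _ ?_
  have h1 := LinearMap.congr_fun hV (π (Pi.single j 1))
  simp only [LinearMap.comp_apply, Submodule.subtype_apply] at h1
  rw [show cV.coact (π (Pi.single j 1)) = π.rTensor A (c.coact (Pi.single j 1)) from LinearMap.congr_fun hπ _,
    coact_single, map_sum, map_sum] at h1
  simp only [LinearMap.rTensor_tmul, Submodule.subtype_apply] at h1
  have h2 := congrArg (TensorProduct.lid R A)
    (Coalgebra.rTensor_counit_comul (R := R) (π (Pi.single j 1) : A))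
  rw [← h1, TensorProduct.lid_tmul, one_smul, map_sum, map_sum] at h2
  rw [← h2]
  refine Submodule.sum_mem _ fun i _ => ?_
  rw [LinearMap.rTensor_tmul, TensorProduct.lid_tmul]
  exact Submodule.smul_mem _ _ (Submodule.subset_span ⟨(i, j), rfl⟩)

/-- A faithful corepresentation from the resolution property. -/
theorem exists_faithful [IsNoetherianRing R] [Module.Flat R A] [Algebra.FiniteType R A]
    (hRE : ∀ (F : Type u) [AddCommGroup F] [Module R F] [HopfRep.Comod R A F] [Module.Finite R F],
      ∃ (E : Type u) (_ : AddCommGroup E) (_ : Module R E) (_ : HopfRep.Comod R A E) (π : E →ₗ[R] F),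
        Module.Finite R E ∧ Module.Projective R E ∧ Function.Surjective π ∧
        HopfRep.Comod.coact (k := R) (A := A) ∘ₗ π = π.rTensor A ∘ₗ HopfRep.Comod.coact (k := R) (A := A) (V := E)) :
    ∃ (d : ℕ) (a : Matrix (Fin d) (Fin d) A),
      (∀ i j, CoalgebraStruct.comul (R := R) (a i j) = ∑ l, a i l ⊗ₜ[R] a l j) ∧
      (∀ i j, CoalgebraStruct.counit (R := R) (a i j) = if i = j then 1 else 0) ∧
      ∃ u : A, u * a.det = 1 ∧ Algebra.adjoin R (Set.range (fun p : Fin d × Fin d => a p.1 p.2) ∪ {u}) = ⊤ := by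
  classical
  obtain ⟨s, hs⟩ := (Algebra.FiniteType.out : (⊤ : Subalgebra R A).FG)
  obtain ⟨V, hfg, hsV, hcomod⟩ := Groth.L11.HopfUnion.exists_fg_subcomodule (R := R) s
  haveI : Module.Finite R V := Module.Finite.iff_fg.2 hfg
  let cV := ComodSub.Comod.restr (HopfRep.Comod.regular R A) V hcomod
  obtain ⟨E, _, _, cE, π, _, _, hπs, hπ⟩ := @hRE V _ _ cV _
  obtain ⟨d, f, hf⟩ := Module.Finite.exists_fin' R E
  obtain ⟨t, ht⟩ := Module.projective_lifting_property f LinearMap.id hf
  let e : (E × LinearMap.ker f) ≃ₗ[R] (Fin d → R) :=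
    LinearEquiv.ofLinearMap (t.coprod (LinearMap.ker f).subtype)
      (f.prod ((LinearMap.id - t ∘ₗ f).codRestrict (LinearMap.ker f) fun z => by
        rw [LinearMap.mem_ker, LinearMap.sub_apply, LinearMap.id_apply, map_sub, LinearMap.comp_apply,
          ← LinearMap.comp_apply f t, ht, LinearMap.id_apply, sub_self]))
      (LinearMap.ext fun z => by simp)
      (LinearMap.ext fun p => by
        have h1 : f (t p.1) = p.1 := LinearMap.congr_fun ht p.1
        have h2 : f (p.2 : Fin d → R) = 0 := p.2.2
        refine Prod.ext ?_ (Subtype.ext ?_) <;> simp [h1, h2])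
  let cT : HopfRep.Comod R A (LinearMap.ker f) := HopfRep.Comod.trivial R A _
  let cP := ComodTens.Comod.prod cE cT
  let c := ComodTens.Comod.ofEquiv e cP
  let π' : (Fin d → R) →ₗ[R] V := π ∘ₗ LinearMap.fst R E (LinearMap.ker f) ∘ₗ e.symm.toLinearMap
  have hπ' : cV.coact ∘ₗ π' = π'.rTensor A ∘ₗ c.coact := by
    refine LinearMap.ext fun z => ?_
    obtain ⟨⟨x, q⟩, rfl⟩ := e.surjective z
    simp only [π', LinearMap.comp_apply, LinearEquiv.coe_coe, LinearEquiv.symm_apply_apply, LinearMap.fst_apply]
    rw [show cV.coact (π x) = π.rTensor A (cE.coact x) from LinearMap.congr_fun hπ x,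
      ComodTens.ofEquiv_coact_apply, ComodTens.prod_coact, map_add, map_add]
    have hcomp : ∀ {X : Type u} [AddCommGroup X] [Module R X] (g : X →ₗ[R] E × LinearMap.ker f) (y : X ⊗[R] A),
        (π ∘ₗ LinearMap.fst R E (LinearMap.ker f) ∘ₗ e.symm.toLinearMap).rTensor A
          (e.toLinearMap.rTensor A (g.rTensor A y)) = (π ∘ₗ LinearMap.fst R E (LinearMap.ker f) ∘ₗ g).rTensor A y := by
      intro X _ _ g y
      rw [← LinearMap.comp_apply (e.toLinearMap.rTensor A), ← LinearMap.rTensor_comp, ← LinearMap.comp_apply,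
        ← LinearMap.rTensor_comp]
      congr 2
      refine LinearMap.ext fun w => ?_
      simp
    rw [hcomp, hcomp, LinearMap.fst_comp_inl, LinearMap.fst_comp_inr, LinearMap.comp_id, LinearMap.comp_zero,
      LinearMap.rTensor_zero, LinearMap.zero_apply, add_zero]
  have hπ's : Function.Surjective π' :=
    hπs.comp (Prod.fst_surjective.comp e.symm.surjective)
  have hleft : Matrix.of (fun j l => HopfAlgebra.antipode R (coeffMat c j l)) * coeffMat c = 1 := by
    ext j q
    have := LinearMap.congr_fun (HopfAlgebra.mul_antipode_rTensor_comul (R := R) (A := A)) (coeffMat c j q)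
    simp only [LinearMap.comp_apply, comul_coeffMat, map_sum, LinearMap.rTensor_tmul, LinearMap.mul'_apply,
      counit_coeffMat] at this
    rw [Matrix.mul_apply]
    simp only [Matrix.of_apply]
    rw [this, Matrix.one_apply]
    split_ifs <;> simp
  obtain ⟨u, hu⟩ := Matrix.isUnit_det_of_left_inverse hleft
  refine ⟨d, coeffMat c, comul_coeffMat c, counit_coeffMat c, ↑u⁻¹, by rw [← hu, Units.inv_mul],
    top_unique (hs ▸ Algebra.adjoin_le fun x hx => ?_)⟩
  obtain ⟨z, hz⟩ := hπ's ⟨x, hsV hx⟩
  have hm := mem_span_coeff c cV (ComodSub.rTensor_subtype_comp_restrCoact _ V hcomod) π' hπ' z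
  rw [hz] at hm
  exact Algebra.adjoin_mono Set.subset_union_left
    ((Submodule.span_le (p := Subalgebra.toSubmodule (Algebra.adjoin R _))).2 Algebra.subset_adjoin hm)

end Groth.L15.ComodRes
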