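import Groth.Agent.Lead.Subcomod
import Groth.Agent.L11.HopfUnion
import Groth.Agent.S3032
import Groth.Prelude.Def_ComodSub
import Mathlib.LinearAlgebra.Dual.Lemmas
import Mathlib.RingTheory.TensorProduct.Free

/-!
Finite comodules over a regular ring of dimension at most two are quotients of finite projective ones.
-/

set_option autoImplicit false
set_option linter.style.haveILetI false
universe u

noncomputable section

open TensorProduct

namespace Groth.L15.ComodRes

variable {R : Type u} [CommRing R] {C : Type u} [AddCommGroup C] [Module R C] [Coalgebra R C]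

/-- The cofree comodule on a module. -/
@[reducible] def cofree (P : Type u) [AddCommGroup P] [Module R P] : HopfRep.Comod R C (P ⊗[R] C) :=
  Hoch.Ind.comod R C P

/-- Evaluation at the counit. -/
def cn (P : Type u) [AddCommGroup P] [Module R P] : P ⊗[R] C →ₗ[R] P :=
  (TensorProduct.rid R P).toLinearMap ∘ₗ (Coalgebra.counit (R := R) (A := C)).lTensor P

theorem cn_natural {P Q : Type u} [AddCommGroup P] [Module R P] [AddCommGroup Q] [Module R Q] (f : P →ₗ[R] Q)
    (x : P ⊗[R] C) : cn Q (f.rTensor C x) = f (cn P x) := by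
  induction x using TensorProduct.induction_on with
  | zero => simp
  | tmul p a => simp [cn]
  | add x y hx hy => simp [map_add, hx, hy]

theorem coactAux_natural {P Q : Type u} [AddCommGroup P] [Module R P] [AddCommGroup Q] [Module R Q] (f : P →ₗ[R] Q)
    (x : P ⊗[R] C) :
    Hoch.Ind.coactAux R C Q (f.rTensor C x) = (f.rTensor C).rTensor C (Hoch.Ind.coactAux R C P x) := by
  induction x using TensorProduct.induction_on with
  | zero => simp
  | add x y hx hy => simp [map_add, hx, hy]
  | tmul p a =>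
    simp only [LinearMap.rTensor_tmul, Hoch.Ind.coactAux_tmul]
    induction Coalgebra.comul (R := R) a using TensorProduct.induction_on with
    | zero => simp
    | tmul b c => simp
    | add x y hx hy => simp only [map_add, tmul_add, hx, hy]

theorem cn_coactAux (P : Type u) [AddCommGroup P] [Module R P] (x : P ⊗[R] C) :
    (cn P).rTensor C (Hoch.Ind.coactAux R C P x) = x := by
  induction x using TensorProduct.induction_on with
  | zero => simp
  | add x y hx hy => simp [map_add, hx, hy]
  | tmul p a =>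
    have key : ∀ z : C ⊗[R] C, (cn P).rTensor C ((TensorProduct.assoc R P C C).symm (p ⊗ₜ z)) =
        p ⊗ₜ[R] TensorProduct.lid R C ((Coalgebra.counit (R := R) (A := C)).rTensor C z) := by
      intro z
      induction z using TensorProduct.induction_on with
      | zero => simp
      | tmul b c => simp [cn, smul_tmul]
      | add x y hx hy => simp only [map_add, tmul_add, hx, hy]
    rw [Hoch.Ind.coactAux_tmul, key, Coalgebra.rTensor_counit_comul, TensorProduct.lid_tmul, one_smul]

section Phi

variable {V : Type u} [AddCommGroup V] [Module R V] [HopfRep.Comod R C V] {G : Type u} [AddCommGroup G] [Module R G]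

/-- The comodule map to a cofree comodule adjoint to a linear map. -/
def Phi (k : V →ₗ[R] G) : V →ₗ[R] G ⊗[R] C :=
  k.rTensor C ∘ₗ HopfRep.Comod.coact (k := R) (A := C) (V := V)

theorem coactAux_coact (v : V) :
    Hoch.Ind.coactAux R C V (HopfRep.Comod.coact (k := R) (A := C) v) =
      (HopfRep.Comod.coact (k := R) (A := C) (V := V)).rTensor C (HopfRep.Comod.coact (k := R) (A := C) v) := by
  rw [Hoch.Ind.coactAux, LinearMap.comp_apply, LinearEquiv.coe_coe, LinearEquiv.symm_apply_eq,
    Groth.L08.coassoc_apply]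

theorem Phi_hom (k : V →ₗ[R] G) (v : V) :
    (Phi k).rTensor C (HopfRep.Comod.coact (k := R) (A := C) v) = Hoch.Ind.coactAux R C G (Phi (C := C) k v) := by
  rw [Phi, LinearMap.comp_apply, coactAux_natural, coactAux_coact, LinearMap.rTensor_comp, LinearMap.comp_apply]

theorem cn_Phi (k : V →ₗ[R] G) (v : V) : cn G (Phi (C := C) k v) = k v := by
  rw [Phi, LinearMap.comp_apply, cn_natural]
  congr 1
  rw [cn, LinearMap.comp_apply, Groth.L08.counit_apply, LinearEquiv.coe_coe, TensorProduct.rid_tmul, one_smul]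

theorem ker_Phi_subcomod [Module.Flat R C] (k : V →ₗ[R] G) :
    HopfRep.IsSubcomod (k := R) (A := C) (LinearMap.ker (Phi (C := C) k)) := fun v hv => by
  refine ((Module.Flat.rTensor_exact C (LinearMap.exact_subtype_ker_map (Phi (C := C) k))) _).1 ?_
  rw [Phi_hom, LinearMap.mem_ker.1 hv, map_zero]

end Phi

/-- The bidual closure of a finitely generated submodule of a projective module is finite projective in dimension two. -/
theorem projective_biorth [IsRegularRing R] (hdim : ringKrullDim R ≤ 2) {D : Type u} [AddCommGroup D] [Module R D]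
    [Module.Projective R D] (W : Submodule R D) (hW : W.FG) :
    Module.Finite R ↥(W.dualAnnihilator.dualCoannihilator) ∧
      Module.Projective R ↥(W.dualAnnihilator.dualCoannihilator) := by
  classical
  set S := W.dualAnnihilator.dualCoannihilator with hS
  have hmem : ∀ x, x ∈ S ↔ ∀ φ : Module.Dual R D, (∀ w ∈ W, φ w = 0) → φ x = 0 := fun x => by
    simp only [hS, Submodule.mem_dualCoannihilator, Submodule.mem_dualAnnihilator]
  obtain ⟨s, hs⟩ := (Module.projective_def (R := R) (P := D)).1 inferInstance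
  obtain ⟨gens, hgens⟩ := hW
  let T : Finset D := gens.biUnion fun g => (s g).support
  let e := (Finset.equivFin T).symm
  let r : D →ₗ[R] (Fin T.card → R) := LinearMap.pi fun t => Finsupp.lapply (e t : D) ∘ₗ s
  let s' : (Fin T.card → R) →ₗ[R] D := Fintype.linearCombination R fun t => (e t : D)
  have hout : ∀ x ∈ S, ∀ d ∉ T, s x d = 0 := fun x hx d hd => (hmem x).1 hx (Finsupp.lapply d ∘ₗ s) fun w hw => by
    have : W ≤ LinearMap.ker (Finsupp.lapply d ∘ₗ s) := by
      rw [← hgens, Submodule.span_le]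
      intro g hg
      exact Finsupp.notMem_support_iff.1 fun h => hd (Finset.mem_biUnion.2 ⟨g, hg, h⟩)
    exact this hw
  have hsr : ∀ x ∈ S, s' (r x) = x := fun x hx => by
    conv_rhs => rw [← hs x, Finsupp.linearCombination_apply]
    have hsub : (s x).support ⊆ T := fun d hd => by
      by_contra hc; exact Finsupp.mem_support_iff.1 hd (hout x hx d hc)
    rw [Finsupp.sum_of_support_subset (s x) hsub (fun i a => a • id i) (fun i _ => zero_smul _ _),
      ← Finset.sum_coe_sort T]
    simp only [s', r, Fintype.linearCombination_apply, LinearMap.pi_apply, LinearMap.comp_apply, Finsupp.lapply_apply]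
    exact e.sum_comp fun d : T => s x d • (d : D)
  let Ann : Submodule R ((Fin T.card → R) →ₗ[R] R) :=
    ⨅ w : W, LinearMap.ker (LinearMap.applyₗ (R := R) (r (w : D)))
  obtain ⟨m, ψ, hψ⟩ := Submodule.fg_iff_exists_fin_generating_family.1 (IsNoetherian.noetherian Ann)
  let Cm : (Fin T.card → R) →ₗ[R] (Fin m → R) := LinearMap.pi ψ
  have hψW : ∀ j, ∀ w ∈ W, ψ j (r w) = 0 := fun j w hw => by
    have h : ψ j ∈ Ann := hψ ▸ Submodule.subset_span ⟨j, rfl⟩
    exact LinearMap.mem_ker.1 ((Submodule.mem_iInf _).1 h ⟨w, hw⟩)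
  have hWS : W ≤ S := fun w hw => (hmem w).2 fun φ hφ => hφ w hw
  have hker : ∀ z, z ∈ LinearMap.ker Cm → ∀ φ : (Fin T.card → R) →ₗ[R] R, (∀ w ∈ W, φ (r w) = 0) → φ z = 0 := by
    intro z hz φ hφ
    have hz' : Ann ≤ LinearMap.ker (LinearMap.applyₗ (R := R) z) := by
      rw [← hψ, Submodule.span_le]
      rintro _ ⟨j, rfl⟩
      exact congrFun (LinearMap.mem_ker.1 hz) j
    exact hz' ((Submodule.mem_iInf _).2 fun w => hφ w.1 w.2)
  have hz1 : ∀ z ∈ LinearMap.ker Cm, s' z ∈ S := fun z hz => (hmem _).2 fun φ hφ =>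
    hker z hz (φ ∘ₗ s') fun w hw => by rw [LinearMap.comp_apply, hsr w (hWS hw), hφ w hw]
  have hz2 : ∀ z ∈ LinearMap.ker Cm, r (s' z) = z := fun z hz => funext fun t => by
    have := hker z hz ((LinearMap.proj t : (Fin T.card → R) →ₗ[R] R) ∘ₗ (r ∘ₗ s' - LinearMap.id)) fun w hw => by
      simp only [LinearMap.comp_apply, LinearMap.sub_apply, LinearMap.id_apply, hsr w (hWS hw), sub_self, map_zero]
    simpa [sub_eq_zero] using this
  have hr : ∀ x ∈ S, r x ∈ LinearMap.ker Cm := fun x hx => LinearMap.mem_ker.2 <| funext fun j =>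
    (hmem x).1 hx (ψ j ∘ₗ r) (hψW j)
  let E : LinearMap.ker Cm ≃ₗ[R] S :=
    LinearEquiv.ofLinearMap ((s'.comp (LinearMap.ker Cm).subtype).codRestrict S fun z => hz1 z.1 z.2)
      ((r.comp S.subtype).codRestrict _ fun x => hr x.1 x.2)
      (LinearMap.ext fun x => Subtype.ext (hsr x.1 x.2)) (LinearMap.ext fun z => Subtype.ext (hz2 z.1 z.2))
  haveI := Groth.L11.HopfUnion.projective_ker_of_dim_le_two hdim Cm
  exact ⟨Module.Finite.equiv E, Module.Projective.of_equiv E⟩

/-- A finite projective subcomodule inside the kernel of a map to a cofree comodule. -/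
theorem exists_subcomod_in_ker [IsRegularRing R] (hdim : ringKrullDim R ≤ 2) [Module.Projective R C]
    {D G₀ : Type u} [AddCommGroup D] [Module R D] [Module.Projective R D] [AddCommGroup G₀] [Module R G₀]
    [Module.Projective R G₀] (cD : HopfRep.Comod R C D) (k : D →ₗ[R] G₀) {n : ℕ} (v : Fin n → D)
    (hv : ∀ i, letI := cD; v i ∈ LinearMap.ker (Phi (C := C) k)) :
    letI := cD
    ∃ S : Submodule R D, HopfRep.IsSubcomod (k := R) (A := C) S ∧ Module.Finite R S ∧ Module.Projective R S ∧
      S ≤ LinearMap.ker (Phi (C := C) k) ∧ ∀ i, v i ∈ S := by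
  letI := cD
  set K := LinearMap.ker (Phi (C := C) k) with hK
  letI cK := ComodSub.Comod.restr cD K (ker_Phi_subcomod k)
  obtain ⟨W', hW', hMW, hWfg⟩ := @Groth.Agent.S3032.result R _ _ C _ _ _ _ ↥K _ _ cK
    (Submodule.span R (Set.range fun i : Fin n => (⟨v i, hv i⟩ : K))) (Submodule.fg_span (Set.finite_range _))
  set W : Submodule R D := W'.map K.subtype with hWdef
  have hWsub : HopfRep.IsSubcomod (k := R) (A := C) W := by
    rintro _ ⟨w, hw, rfl⟩
    obtain ⟨y, hy⟩ := hW' w hw
    refine ⟨(K.subtype.restrict fun a ha => Submodule.mem_map_of_mem ha : W' →ₗ[R] W).rTensor C y, ?_⟩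
    rw [← LinearMap.comp_apply, ← LinearMap.rTensor_comp]
    show (K.subtype ∘ₗ W'.subtype).rTensor C y = _
    rw [LinearMap.rTensor_comp, LinearMap.comp_apply, hy]
    exact ComodSub.restr_coact_coe cD K _ w
  set S := W.dualAnnihilator.dualCoannihilator with hS
  have hmem : ∀ x, x ∈ S ↔ ∀ φ : Module.Dual R D, (∀ w ∈ W, φ w = 0) → φ x = 0 := fun x => by
    simp only [hS, Submodule.mem_dualCoannihilator, Submodule.mem_dualAnnihilator]
  have hSK : S ≤ K := fun x hx => by
    rw [hK, LinearMap.mem_ker, ← Module.forall_dual_apply_eq_zero_iff R]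
    intro φ
    refine (hmem x).1 hx (φ ∘ₗ Phi (C := C) k) fun w hw => ?_
    obtain ⟨w', -, rfl⟩ := hw
    show φ (Phi (C := C) k (w' : D)) = 0
    rw [LinearMap.mem_ker.1 w'.2, map_zero]
  have hSsub : HopfRep.IsSubcomod (k := R) (A := C) S :=
    Groth.Lead.Subcomod.isSubcomod_of_fAct_mem fun γ x hx => (hmem _).2 fun φ hφ =>
      (hmem x).1 hx (φ ∘ₗ Groth.L08.fAct D γ) fun w hw => hφ _ (Groth.Lead.Subcomod.fAct_mem hWsub hw γ)
  obtain ⟨hfin, hproj⟩ := projective_biorth hdim W (hWfg.map _)
  exact ⟨S, hSsub, hfin, hproj, hSK, fun i => (hmem _).2 fun φ hφ =>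
    hφ _ ⟨⟨v i, hv i⟩, hMW (Submodule.subset_span ⟨i, rfl⟩), rfl⟩⟩

/-- The kernel of a map of cofree comodules covering a given comodule. -/
theorem ker_cover {F : Type u} [AddCommGroup F] [Module R F] [HopfRep.Comod R C F]
    {N L G G₀ : Type u} [AddCommGroup N] [Module R N] [AddCommGroup L] [Module R L] [AddCommGroup G] [Module R G]
    [AddCommGroup G₀] [Module R G₀] (p : N →ₗ[R] F) (hp : Function.Surjective p) (g : G₀ →ₗ[R] G)
    (hg : Function.Surjective g) (l : L →ₗ[R] G₀) (hl : Function.Exact l g) (q : F ⊗[R] C →ₗ[R] G)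
    (hq : Function.Exact (HopfRep.Comod.coact (k := R) (A := C) (V := F)) q) (hlift : N ⊗[R] C →ₗ[R] G₀)
    (hhl : g ∘ₗ hlift = q ∘ₗ p.rTensor C) :
    letI := cofree (R := R) (C := C) (N × L)
    ∃ (k : (N × L) ⊗[R] C →ₗ[R] G₀) (π : (N × L) ⊗[R] C →ₗ[R] F),
      (∀ x ∈ LinearMap.ker (Phi (C := C) k),
        HopfRep.Comod.coact (k := R) (A := C) (π x) = π.rTensor C (Hoch.Ind.coactAux R C (N × L) x)) ∧
      (∀ f : F, ∃ x ∈ LinearMap.ker (Phi (C := C) k), π x = f) := by
  letI := cofree (R := R) (C := C) (N × L)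
  let k : (N × L) ⊗[R] C →ₗ[R] G₀ :=
    hlift ∘ₗ (LinearMap.fst R N L).rTensor C + l ∘ₗ LinearMap.snd R N L ∘ₗ cn _
  let π : (N × L) ⊗[R] C →ₗ[R] F := cn F ∘ₗ (p ∘ₗ LinearMap.fst R N L).rTensor C
  have hΦ : ∀ x, Phi (C := C) k x = hlift.rTensor C (Hoch.Ind.coactAux R C N ((LinearMap.fst R N L).rTensor C x)) +
      (l ∘ₗ LinearMap.snd R N L).rTensor C x := fun x => by
    show k.rTensor C (Hoch.Ind.coactAux R C _ x) = _
    simp only [k, LinearMap.rTensor_add, LinearMap.add_apply, LinearMap.rTensor_comp, LinearMap.comp_apply]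
    rw [coactAux_natural, cn_coactAux]
  have hcn : ∀ f : F, cn F (HopfRep.Comod.coact (k := R) (A := C) f) = f := fun f => by
    rw [cn, LinearMap.comp_apply, Groth.L08.counit_apply, LinearEquiv.coe_coe, TensorProduct.rid_tmul, one_smul]
  refine ⟨k, π, fun x hx => ?_, fun f => ?_⟩
  · have hk : k x = 0 := by rw [← cn_Phi (C := C) k x, LinearMap.mem_ker.1 hx, map_zero]
    have h0 : q ((p ∘ₗ LinearMap.fst R N L).rTensor C x) = 0 := by
      have hh := congrArg g hk
      simp only [k, LinearMap.add_apply, LinearMap.comp_apply, map_add, map_zero, hl.apply_apply_eq_zero, add_zero] at hh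
      rw [← LinearMap.comp_apply g, hhl] at hh
      rw [LinearMap.rTensor_comp]
      exact hh
    obtain ⟨f, hf⟩ := (hq _).1 h0
    have h2 : π x = f := by
      show cn F _ = f
      rw [← hf, hcn]
    rw [h2, hf]
    show _ = (cn F ∘ₗ (p ∘ₗ LinearMap.fst R N L).rTensor C).rTensor C _
    conv_rhs => rw [LinearMap.rTensor_comp, LinearMap.comp_apply, ← coactAux_natural, cn_coactAux]
  · obtain ⟨x₁, hx₁⟩ := LinearMap.rTensor_surjective C hp (HopfRep.Comod.coact (k := R) (A := C) f)
    have hz : g.rTensor C (hlift.rTensor C (Hoch.Ind.coactAux R C N x₁)) = 0 := by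
      rw [← LinearMap.comp_apply, ← LinearMap.rTensor_comp, hhl, LinearMap.rTensor_comp, LinearMap.comp_apply,
        ← coactAux_natural, hx₁, coactAux_coact, ← LinearMap.comp_apply, ← LinearMap.rTensor_comp,
        hq.linearMap_comp_eq_zero, LinearMap.rTensor_zero, LinearMap.zero_apply]
    obtain ⟨w, hw⟩ := ((rTensor_exact C hl hg) _).1 hz
    refine ⟨(LinearMap.inl R N L).rTensor C x₁ + (LinearMap.inr R N L).rTensor C (-w), ?_, ?_⟩
    · rw [LinearMap.mem_ker, hΦ]
      simp only [map_add, map_neg, ← LinearMap.comp_apply, ← LinearMap.rTensor_comp, LinearMap.fst_comp_inl,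
        LinearMap.fst_comp_inr, LinearMap.comp_assoc, LinearMap.snd_comp_inl, LinearMap.snd_comp_inr,
        LinearMap.comp_zero, LinearMap.comp_id, LinearMap.rTensor_id, LinearMap.rTensor_zero, LinearMap.id_apply,
        LinearMap.zero_apply, neg_zero, add_zero, zero_add]
      rw [hw]
      simp
    · show cn F ((p ∘ₗ LinearMap.fst R N L).rTensor C _) = f
      rw [map_add, ← LinearMap.comp_apply, ← LinearMap.rTensor_comp, ← LinearMap.comp_apply, ← LinearMap.rTensor_comp,
        LinearMap.comp_assoc, LinearMap.fst_comp_inl, LinearMap.comp_id, LinearMap.comp_assoc, LinearMap.fst_comp_inr,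
        LinearMap.comp_zero, LinearMap.rTensor_zero, LinearMap.zero_apply, add_zero, hx₁, hcn]

/-- A finite projective comodule inside the kernel, mapping onto the target. -/
theorem exists_cover_of_ker [IsRegularRing R] (hdim : ringKrullDim R ≤ 2) [Module.Projective R C]
    {D G₀ : Type u} [AddCommGroup D] [Module R D] [Module.Projective R D] [AddCommGroup G₀] [Module R G₀]
    [Module.Projective R G₀] {F : Type u} [AddCommGroup F] [Module R F] [HopfRep.Comod R C F] [Module.Finite R F]
    (cD : HopfRep.Comod R C D) (k : D →ₗ[R] G₀) (π : D →ₗ[R] F)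
    (hπ : letI := cD; ∀ x ∈ LinearMap.ker (Phi (C := C) k),
      HopfRep.Comod.coact (k := R) (A := C) (π x) = π.rTensor C (cD.coact x))
    (hsurj : letI := cD; ∀ f : F, ∃ x ∈ LinearMap.ker (Phi (C := C) k), π x = f) :
    ∃ (V : Type u) (_ : AddCommGroup V) (_ : Module R V) (_ : HopfRep.Comod R C V) (φ : V →ₗ[R] F),
      Module.Finite R V ∧ Module.Projective R V ∧ Function.Surjective φ ∧
      HopfRep.Comod.coact (k := R) (A := C) ∘ₗ φ = φ.rTensor C ∘ₗ HopfRep.Comod.coact (k := R) (A := C) (V := V) := by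
  obtain ⟨n, p, hp⟩ := Module.Finite.exists_fin' R F
  choose pre hpre hpreπ using hsurj
  obtain ⟨S, hSsub, hfin, hproj, hSK, hvS⟩ := exists_subcomod_in_ker hdim cD k
    (fun i : Fin n => pre (p (Pi.single i 1))) fun i => hpre _
  refine ⟨S, inferInstance, inferInstance, ComodSub.Comod.restr cD S hSsub, π ∘ₗ S.subtype, hfin, hproj, ?_, ?_⟩
  · intro f
    obtain ⟨c, rfl⟩ := hp f
    refine ⟨∑ i, c i • ⟨_, hvS i⟩, ?_⟩
    simp only [map_sum, map_smul]
    rw [pi_eq_sum_univ' c, map_sum]
    refine Finset.sum_congr rfl fun i _ => ?_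
    rw [map_smul, ← pi_eq_sum_univ' c]
    congr 1
    exact hpreπ _
  · refine LinearMap.ext fun x => ?_
    show HopfRep.Comod.coact (π (x : D)) = _
    rw [hπ _ (hSK x.2), LinearMap.comp_apply, LinearMap.rTensor_comp, LinearMap.comp_apply,
      ComodSub.restr_coact_coe cD S hSsub x]

/-- Finite comodules are quotients of finite projective comodules in dimension at most two. -/
theorem exists_projective_cover [IsRegularRing R] (hdim : ringKrullDim R ≤ 2) [Module.Projective R C]
    (F : Type u) [AddCommGroup F] [Module R F] [HopfRep.Comod R C F] [Module.Finite R F] :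
    ∃ (V : Type u) (_ : AddCommGroup V) (_ : Module R V) (_ : HopfRep.Comod R C V) (φ : V →ₗ[R] F),
      Module.Finite R V ∧ Module.Projective R V ∧ Function.Surjective φ ∧
      HopfRep.Comod.coact (k := R) (A := C) ∘ₗ φ = φ.rTensor C ∘ₗ HopfRep.Comod.coact (k := R) (A := C) (V := V) := by
  obtain ⟨n, p, hp⟩ := Module.Finite.exists_fin' R F
  let G := (F ⊗[R] C) ⧸ LinearMap.range (HopfRep.Comod.coact (k := R) (A := C) (V := F))
  let g : (G →₀ R) →ₗ[R] G := Finsupp.linearCombination R id
  have hg : Function.Surjective g := Finsupp.linearCombination_id_surjective R _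
  let l : (LinearMap.ker g →₀ R) →ₗ[R] (G →₀ R) :=
    (LinearMap.ker g).subtype ∘ₗ Finsupp.linearCombination R id
  have hl : Function.Exact l g := by
    rw [LinearMap.exact_iff, LinearMap.range_comp, LinearMap.range_eq_top.2 (Finsupp.linearCombination_id_surjective R _),
      Submodule.map_top, Submodule.range_subtype]
  have hq : Function.Exact (HopfRep.Comod.coact (k := R) (A := C) (V := F))
      (Submodule.mkQ (LinearMap.range (HopfRep.Comod.coact (k := R) (A := C) (V := F)))) :=
    LinearMap.exact_map_mkQ_range _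
  obtain ⟨hlift, hhl⟩ := Module.projective_lifting_property g ((Submodule.mkQ _) ∘ₗ p.rTensor C) hg
  letI cD := cofree (R := R) (C := C) ((Fin n → R) × (LinearMap.ker g →₀ R))
  obtain ⟨k, π, hπ, hsurj⟩ := ker_cover p hp g hg l hl _ hq hlift hhl
  exact exists_cover_of_ker hdim cD k π hπ hsurj

end Groth.L15.ComodRes
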